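import Groth.Agent.AmpleLib.Twist
import Groth.Agent.ProjTwist.Tensor
import Groth.Agent.PicLaw.Basic
import Groth.Agent.PicCl.Basic
import Groth.Agent.AssSch.Basic
import Groth.Prelude.Def_ClSub2

/-!
# Multiplication by a section between negative twists
-/

set_option autoImplicit false
set_option linter.style.haveILetI false
universe u

open CategoryTheory Limits AlgebraicGeometry Opposite TopologicalSpace

noncomputable section

namespace Groth.Agent.NegVan

open Groth.Agent.QCoh Groth.Agent.Props.GenLocus Groth.Agent.Props.GenTensor Groth.Agent.ProjTwist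
open Groth.Agent.PullStalk.Sky Groth.Agent.PullStalk.Exact

variable {X : Scheme.{u}}

/-- `g ↦ g ⊗ s` -/
def mulSec (L : X.Modules) (s : Coh.structureModule X ⟶ L) (G : X.Modules) :
    G ⟶ CohB1.tensorMod G L :=
  ⟨PresheafOfModules.homMk
    { app := fun U => AddCommGrpCat.ofHom (show Γ(G, U.unop) →+ Γ(CohB1.tensorMod G L, U.unop) from
        AddMonoidHom.mk' (fun g => tmul g (sec s U.unop)) fun a b => AmpleLib.tmul_add_left a b _)
      naturality := fun {U V} i => AddCommGrpCat.hom_ext <| AddMonoidHom.ext fun g => by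
        let g' : Γ(G, U.unop) := g
        show tmul (res G i.unop.le g') (sec s V.unop) =
          res (CohB1.tensorMod G L) i.unop.le (tmul g' (sec s U.unop))
        rw [res_tmul, sec_res] }
    fun U a g => tmul_smul_left (V := U.unop) a g (sec s U.unop)⟩

theorem mulSec_app (L : X.Modules) (s : Coh.structureModule X ⟶ L) (G : X.Modules) (U : X.Opens)
    (g : Γ(G, U)) : (mulSec L s G).app U g = tmul g (sec s U) := rfl

/-- Bijectivity on stalks from bijectivity on sections. -/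
theorem stalkLin_bijective {M N : X.Modules} (φ : M ⟶ N) (U : X.Opens)
    (h : ∀ V ≤ U, Function.Bijective (φ.app V)) (x : X) (hx : x ∈ U) :
    Function.Bijective (stalkLin φ x) := by
  constructor
  · refine (injective_iff_map_eq_zero _).mpr fun t ht => ?_
    obtain ⟨W, hxW, m, rfl⟩ := exists_germM_eq M x t
    rw [stalkLin_germ] at ht
    obtain ⟨V, hV, hxV, h0⟩ := AssSch.Stalk.exists_res_eq_zero N x hxW _ ht
    have h1 : φ.app (V ⊓ U) (res M (inf_le_left.trans hV) m) = 0 := by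
      rw [app_res, ← res_res N hV inf_le_left, h0, map_zero]
    have h2 : res M (inf_le_left.trans hV) m = 0 := (h (V ⊓ U) inf_le_right).1 (h1.trans (map_zero _).symm)
    rw [← AssSch.Stalk.germM_res M (inf_le_left.trans hV) x (show x ∈ V ⊓ U from ⟨hxV, hx⟩) m, h2]
    exact AssSch.Stalk.germM_zero M x _
  · intro t
    obtain ⟨W, hxW, n, rfl⟩ := exists_germM_eq N x t
    obtain ⟨m, hm⟩ := (h (W ⊓ U) inf_le_right).2 (res N inf_le_left n)
    refine ⟨germM M (W ⊓ U) x ⟨hxW, hx⟩ m, ?_⟩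
    rw [stalkLin_germ, hm, AssSch.Stalk.germM_res]

theorem stalkLin_comp' {A B C : X.Modules} (φ : A ⟶ B) (ψ : B ⟶ C) (x : X) (t : A.presheaf.stalk x) :
    stalkLin (φ ≫ ψ) x t = stalkLin ψ x (stalkLin φ x t) := by
  obtain ⟨U, hx, m, rfl⟩ := exists_germM_eq A x t
  rw [stalkLin_germ, stalkLin_germ, stalkLin_germ]
  rfl

theorem stalkLin_iso_bijective {A B : X.Modules} (e : A ≅ B) (x : X) :
    Function.Bijective (stalkLin e.hom x) :=
  stalkLin_bijective e.hom ⊤ (fun V _ => (ConcreteCategory.isIso_iff_bijective _).1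
    (Iso.isIso_hom (((Scheme.Modules.toPresheaf X).mapIso e).app (op V)))) x trivial

theorem mulSec_bijective_at {L : X.Modules} (s : Coh.structureModule X ⟶ L) (G : X.Modules) (x : X)
    (hx : x ∈ CohB1.genLocus L s) : Function.Bijective (stalkLin (mulSec L s G) x) := by
  obtain ⟨W, hxW, hW⟩ := (mem_genLocus_iff s x).1 hx
  refine stalkLin_bijective _ W (fun V hV => ?_) x hxW
  have h := AmpleLib.tmul_gen_bijective hW G hV
  rw [show ⇑(ConcreteCategory.hom ((mulSec L s G).app V)) = fun g => tmul g (res L hV (sec s W)) from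
    funext fun g => by rw [sec_res]; rfl]
  exact h

theorem mulSec_range_le {L : X.Modules} (hL : PicF.IsInvertible L) (s : Coh.structureModule X ⟶ L)
    (G : X.Modules) (x : X) (hx : x ∉ CohB1.genLocus L s) :
    LinearMap.range (stalkLin (mulSec L s G) x) ≤
      IsLocalRing.maximalIdeal (X.presheaf.stalk x) • (⊤ : Submodule _ _) := by
  rintro _ ⟨t, rfl⟩
  obtain ⟨U₀, e, hxU, he⟩ := exists_isGen hL x
  obtain ⟨U, hxU', g, rfl⟩ := exists_germM_eq G x t
  let W := U ⊓ U₀
  have hxW : x ∈ W := ⟨hxU', hxU⟩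
  obtain ⟨a, ha, -⟩ := he.exists_eq (inf_le_right : W ≤ U₀) (sec s W)
  rw [← AssSch.Stalk.germM_res G (inf_le_left : W ≤ U) x hxW, stalkLin_germ, mulSec_app, ha,
    tmul_smul_right, germM_smul]
  refine Submodule.smul_mem_smul ?_ Submodule.mem_top
  rw [IsLocalRing.mem_maximalIdeal]
  intro hu
  have hb : x ∈ X.basicOpen a := (X.mem_basicOpen a x hxW).mpr hu
  rw [← genLocus_inf (he.restrict (inf_le_right : W ≤ U₀)) s ha] at hb
  exact hx hb.1

theorem tmul_zero_left {F N : X.Modules} {V : X.Opens} (n : Γ(N, V)) : tmul (0 : Γ(F, V)) n = 0 := by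
  unfold Groth.Agent.Props.GenTensor.tmul
  rw [TensorProduct.zero_tmul]
  exact map_zero ((η F N).app (op V)).hom

theorem eq_zero_of_germ_ass [IsLocallyNoetherian X] {F N : X.Modules} [F.IsQuasicoherent]
    (hN : PicF.IsInvertible N) (σ : Γ(CohB1.tensorMod F N, ⊤))
    (h : ∀ x ∈ _root_.AssSch.Ass F, germM (CohB1.tensorMod F N) ⊤ x trivial σ = 0) : σ = 0 := by
  refine AssSch.Basic.eq_zero_of_germ_eq_zero _ σ fun y hy => ?_
  obtain ⟨U₀, e, hyU₀, he⟩ := exists_isGen hN y
  obtain ⟨V, hV, hyV, hVU⟩ := exists_isAffineOpen_mem_and_subset (X := X) (x := y) (U := U₀) hyU₀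
  have heV := he.restrict (show V ≤ U₀ from hVU)
  obtain ⟨f, hf⟩ := (AmpleLib.tmul_gen_bijective heV F le_rfl).2 (res _ (le_top : V ≤ ⊤) σ)
  have hf0 : f = 0 := by
    refine AssSch.Basic.eq_zero_of_forall_germ_eq_zero F hV f fun x hxV hx => ?_
    have h0 : germM (CohB1.tensorMod F N) V x hxV (tmul f (res N le_rfl (res N hVU e))) = 0 := by
      exact (congrArg (germM _ V x hxV) hf).trans ((AssSch.Stalk.germM_res _ le_top x hxV σ).trans (h x hx))
    obtain ⟨W, hW, hxW, h1⟩ := AssSch.Stalk.exists_res_eq_zero _ x hxV _ h0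
    rw [res_tmul, res_res, res_res] at h1
    have h2 : res F hW f = 0 := by
      refine (AmpleLib.tmul_gen_bijective he F (hW.trans hVU)).1 ?_
      exact h1.trans (tmul_zero_left _).symm
    rw [← AssSch.Stalk.germM_res F hW x hxW, h2]
    exact AssSch.Stalk.germM_zero F x hxW
  refine (AssSch.Stalk.germM_res _ (le_top : V ≤ ⊤) y hyV σ).symm.trans ?_
  rw [← hf, hf0]
  exact (congrArg (germM _ V y hyV) (tmul_zero_left _)).trans (AssSch.Stalk.germM_zero _ y hyV)

/-! ### The inverse powers -/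

variable {L M : X.Modules}

theorem isInvertible_of_inverse (hL : PicF.IsInvertible L) (hM : ClSub.IsInverseOf L M) :
    PicF.IsInvertible M := by
  obtain ⟨L', hL', ⟨e'⟩⟩ := PicLaw.exists_inverse hL
  obtain ⟨e⟩ := hM
  refine PicCl.isInvertible_of_iso ?_ hL'
  exact (tensOne L').symm ≪≫ tensCongr (Iso.refl L') e.symm ≪≫ (tensAssoc L' L M).symm ≪≫
    tensCongr (tensComm L' L ≪≫ e') (Iso.refl M) ≪≫ oneTens M

/-- `M^r ⊗ L^r ≅ O` -/
def powInvIso (e : CohB1.tensorMod L M ≅ Coh.structureModule X) : ∀ r : ℕ,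
    CohB1.tensorMod (CohB1.tensorPow M r) (CohB1.tensorPow L r) ≅ Coh.structureModule X
  | 0 => oneTens _
  | r + 1 => tensAssoc _ _ _ ≪≫ tensCongr (Iso.refl _) (tensComm _ _ ≪≫ tensAssoc _ _ _ ≪≫
      tensCongr (Iso.refl _) e ≪≫ tensOne _) ≪≫ powInvIso e r

/-- `M^a ⊗ M^r ≅ M^(a + r)` -/
def powAddIso (M : X.Modules) (a : ℕ) : ∀ r,
    CohB1.tensorMod (CohB1.tensorPow M a) (CohB1.tensorPow M r) ≅ CohB1.tensorPow M (a + r)
  | 0 => tensOne _
  | r + 1 => (tensAssoc _ _ M).symm ≪≫ tensCongr (powAddIso M a r) (Iso.refl M)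

/-- `F ⊗ M^(a+r) ⊗ L^r ≅ F ⊗ M^a` -/
def downIso (e : CohB1.tensorMod L M ≅ Coh.structureModule X) (F : X.Modules) (a r : ℕ) :
    CohB1.tensorMod (CohB1.tensorMod F (CohB1.tensorPow M (a + r))) (CohB1.tensorPow L r) ≅
      CohB1.tensorMod F (CohB1.tensorPow M a) :=
  tensAssoc _ _ _ ≪≫ tensCongr (Iso.refl F) (tensCongr (powAddIso M a r).symm (Iso.refl _) ≪≫
    tensAssoc _ _ _ ≪≫ tensCongr (Iso.refl _) (powInvIso e r) ≪≫ tensOne _)

/-- multiplication by a section of `L^r` -/
def down (e : CohB1.tensorMod L M ≅ Coh.structureModule X) (F : X.Modules) {r : ℕ}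
    (s : Coh.structureModule X ⟶ CohB1.tensorPow L r) (a : ℕ) :
    CohB1.tensorMod F (CohB1.tensorPow M (a + r)) ⟶ CohB1.tensorMod F (CohB1.tensorPow M a) :=
  mulSec _ s _ ≫ (downIso e F a r).hom

theorem down_bijective_at (e : CohB1.tensorMod L M ≅ Coh.structureModule X) (F : X.Modules) {r : ℕ}
    (s : Coh.structureModule X ⟶ CohB1.tensorPow L r) (a : ℕ) (x : X) (hx : x ∈ CohB1.genLocus _ s) :
    Function.Bijective (stalkLin (down e F s a) x) := by
  rw [show ⇑(stalkLin (down e F s a) x) = stalkLin (downIso e F a r).hom x ∘ stalkLin (mulSec _ s _) x from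
    funext fun t => stalkLin_comp' _ _ x t]
  exact (stalkLin_iso_bijective _ x).comp (mulSec_bijective_at s _ x hx)

theorem down_range_le (hL : PicF.IsInvertible L) (e : CohB1.tensorMod L M ≅ Coh.structureModule X)
    (F : X.Modules) {r : ℕ}
    (s : Coh.structureModule X ⟶ CohB1.tensorPow L r) (a : ℕ) (x : X) (hx : x ∉ CohB1.genLocus _ s) :
    LinearMap.range (stalkLin (down e F s a) x) ≤
      IsLocalRing.maximalIdeal (X.presheaf.stalk x) • (⊤ : Submodule _ _) := by
  rintro _ ⟨t, rfl⟩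
  have h := Submodule.mem_map_of_mem (f := stalkLin (downIso e F a r).hom x)
    (mulSec_range_le (AmpleLib.isInvertible_tensorPow hL r) s _ x hx ⟨t, rfl⟩)
  rw [← stalkLin_comp', Submodule.map_smul''] at h
  exact Submodule.smul_mono le_rfl le_top h

end Groth.Agent.NegVan
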