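import Groth.Agent.NegVan.MulTheta
import Groth.Agent.Props.AmpleCoeff
import Groth.Agent.Props.AmpleBase
import Groth.Agent.CohDev.Tensor
import Mathlib.RingTheory.Algebraic.Integral
import Mathlib.RingTheory.IntegralClosure.IntegrallyClosed
import Groth.Agent.AssSch.Stalk

/-!
# Linear families of maps `M^K → O` without zeros at given non-closed points
-/

set_option autoImplicit false
set_option linter.style.haveILetI false
set_option backward.isDefEq.respectTransparency false
set_option backward.isDefEq.respectTransparency.types false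
universe u

open CategoryTheory Limits AlgebraicGeometry Opposite TopologicalSpace Polynomial

noncomputable section

namespace Groth.Agent.NegVan

open Groth.Agent.QCoh Groth.Agent.Props.GenLocus Groth.Agent.Props.GenTensor Groth.Agent.ProjTwist
open Groth.Agent.Props.GenProd Groth.Agent.PullStalk.Sky Groth.Agent.PullStalk.Exact

section Algebra

variable (k : Type u) [Field k] {B : Type u} [CommRing B] [Algebra k B]

theorem exists_transcendental_of_prime {p : Ideal B} [p.IsPrime] (hp : ¬ p.IsMaximal) {J : Ideal B}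
    (hJ : ¬ J ≤ p) : ∃ b ∈ J, Transcendental k (Ideal.Quotient.mk p b) := by
  by_contra h
  push Not at h
  have halg : ∀ b ∈ J, IsAlgebraic k (Ideal.Quotient.mk p b) := fun b hb =>
    not_not.1 (h b hb)
  obtain ⟨c, hcJ, hcp⟩ := SetLike.not_le_iff_exists.1 hJ
  have hc0 : Ideal.Quotient.mk p c ≠ 0 := fun h0 => hcp (Ideal.Quotient.eq_zero_iff_mem.1 h0)
  obtain ⟨r, hr, hdvd⟩ := (halg c hcJ).exists_nonzero_dvd (mem_nonZeroDivisors_of_ne_zero hc0)
  obtain ⟨v, hv⟩ := isUnit_iff_exists_inv.1 (isUnit_of_dvd_unit hdvd ((Ne.isUnit hr).map _))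
  haveI : Algebra.IsAlgebraic k (B ⧸ p) := ⟨fun d => by
    obtain ⟨b, hb⟩ := Ideal.Quotient.mk_surjective (v * d)
    have := halg (c * b) (J.mul_mem_right b hcJ)
    rwa [map_mul, hb, ← mul_assoc, hv, one_mul] at this⟩
  haveI : Algebra.IsIntegral k (B ⧸ p) := Algebra.IsAlgebraic.isIntegral
  exact hp (Ideal.Quotient.maximal_of_isField p
    (isField_of_isIntegral_of_isField' (Field.toIsField k)))

theorem exists_transcendental (P : Set (Ideal B)) (hfin : P.Finite) (hprime : ∀ p ∈ P, p.IsPrime)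
    (hmax : ∀ p ∈ P, ¬ p.IsMaximal) :
    ∃ a : B, ∀ p ∈ P, ∀ f : k[X], f ≠ 0 → aeval a f ∉ p := by
  classical
  let S := hfin.toFinset.filter fun p => ∀ q ∈ P, p ≤ q → q = p
  have hS : ∀ p ∈ S, p ∈ P := fun p hp => hfin.mem_toFinset.1 (Finset.mem_filter.1 hp).1
  have hJ : ∀ p ∈ S, ¬ ((S.erase p).inf id : Ideal B) ≤ p := by
    intro p hp hle
    obtain ⟨q, hq, hqp⟩ := ((hprime p (hS p hp)).inf_le' (s := S.erase p) (f := id)).1 hle
    obtain ⟨hne, hq'⟩ := Finset.mem_erase.1 hq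
    exact hne ((Finset.mem_filter.1 hq').2 p (hS p hp) hqp).symm
  have hb : ∀ p : S, ∃ b ∈ ((S.erase p.1).inf id : Ideal B), Transcendental k (Ideal.Quotient.mk p.1 b) := fun p =>
    haveI := hprime p.1 (hS p.1 p.2)
    exists_transcendental_of_prime k (hmax p.1 (hS p.1 p.2)) (hJ p.1 p.2)
  choose b hbJ hbT using hb
  refine ⟨∑ p : S, b p, fun p hp f hf hmem => ?_⟩
  obtain ⟨q, hpq, hq⟩ := (hfin.subset (Set.sep_subset P fun q => p ≤ q)).exists_maximal ⟨p, hp, le_rfl⟩
  have hqS : q ∈ S := Finset.mem_filter.2 ⟨hfin.mem_toFinset.2 hpq.1, fun q' hq' hle =>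
    le_antisymm (hq ⟨hq', hpq.2.trans hle⟩ hle) hle⟩
  have hsum : Ideal.Quotient.mk q (∑ p : S, b p) = Ideal.Quotient.mk q (b ⟨q, hqS⟩) := by
    rw [map_sum]
    refine Finset.sum_eq_single (⟨q, hqS⟩ : S) (fun p' _ hne => ?_) (fun h => absurd (Finset.mem_univ _) h)
    refine Ideal.Quotient.eq_zero_iff_mem.2 ?_
    have hle : ((S.erase p'.1).inf id : Ideal B) ≤ q :=
      Finset.inf_le (f := id) (Finset.mem_erase.2 ⟨fun h => hne (Subtype.ext h.symm), hqS⟩)
    exact hle (hbJ p')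
  refine hbT ⟨q, hqS⟩ ⟨f, hf, ?_⟩
  rw [← hsum, ← Ideal.Quotient.mkₐ_eq_mk k, aeval_algHom_apply]
  exact Ideal.Quotient.eq_zero_iff_mem.2 (hpq.2 hmem)

end Algebra

variable {X : Scheme.{u}} (k : Type u) [Field k] [X.Over (Spec (CommRingCat.of k))]

/-- The linear combination of maps to `O`. -/
def comb {N : X.Modules} {n : ℕ} (θ : Fin n → (N ⟶ Coh.structureModule X)) (c : Fin n → k) :
    N ⟶ Coh.structureModule X :=
  ∑ i, θ i ≫ TwSh.scalarEnd (Coh.structureModule X) (Coh.toGlobal (X ↘ Spec (CommRingCat.of k)) (c i))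

theorem stalkLin_scalarEnd (G : X.Modules) (r : Γ(X, ⊤)) (x : X) (t : G.presheaf.stalk x) :
    stalkLin (TwSh.scalarEnd G r) x t = X.presheaf.germ ⊤ x trivial r • t := by
  obtain ⟨U, hx, m, rfl⟩ := exists_germM_eq G x t
  rw [stalkLin_germ, TwSh.scalarEnd_app_apply, germM_smul]
  exact congrArg (· • germM G U x hx m) (X.presheaf.germ_res_apply (homOfLE le_top) x hx r)

theorem stalkLin_comb {N : X.Modules} {n : ℕ} (θ : Fin n → (N ⟶ Coh.structureModule X)) (c : Fin n → k)
    (x : X) (t : N.presheaf.stalk x) :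
    stalkLin (comb k θ c) x t =
      ∑ i, X.presheaf.germ ⊤ x trivial (Coh.toGlobal (X ↘ Spec (CommRingCat.of k)) (c i)) • stalkLin (θ i) x t := by
  rw [comb, CohDev.stalkLin_sum_apply]
  exact Finset.sum_congr rfl fun i _ => (stalkLin_comp' _ _ x t).trans (stalkLin_scalarEnd _ _ x _)

variable {k}

theorem exists_family [IsNoetherian X] [LocallyOfFiniteType (X ↘ Spec (CommRingCat.of k))]
    {L M : X.Modules} (hL : CohB1.IsAmple L) (e : CohB1.tensorMod L M ≅ Coh.structureModule X)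
    {r : ℕ} (hr : 0 < r) (s : Coh.structureModule X ⟶ CohB1.tensorPow L r)
    (hW : IsAffineOpen (CohB1.genLocus _ s)) (A : Set X) (hA : A ⊆ (CohB1.genLocus _ s : Set X))
    (hAfin : A.Finite) (hAc : ∀ z ∈ A, ¬ IsClosed ({z} : Set X)) (n : ℕ) :
    ∃ (E : ℕ) (θ : Fin n → (CohB1.tensorPow M (r * (E + 1)) ⟶ Coh.structureModule X)),
      ∀ c : Fin n → k, c ≠ 0 → ∀ z ∈ A, IsUnitAt (comb k θ c) z := by
  classical
  set W := CohB1.genLocus _ s
  haveI := Props.AmpleBase.quasiSeparatedSpace_of_isAmple hL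
  let str : k →+* Γ(X, W) := (rres (le_top : W ≤ ⊤)).hom.comp (Coh.toGlobal (X ↘ Spec (CommRingCat.of k)))
  letI : Algebra k Γ(X, W) := str.toAlgebra
  let P : Set (Ideal Γ(X, W)) := Set.range fun z : A => AssSch.Stalk.primeOf hW z.1 (hA z.2)
  have : Finite A := hAfin.to_subtype
  obtain ⟨a, ha⟩ := exists_transcendental k P (Set.finite_range _)
    (by rintro _ ⟨z, rfl⟩; exact (hW.primeIdealOf ⟨z.1, hA z.2⟩).isPrime) (by
      rintro _ ⟨z, rfl⟩ hm
      haveI : JacobsonSpace ↥X := LocallyOfFiniteType.jacobsonSpace (X ↘ Spec (CommRingCat.of k))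
      refine hAc z.1 z.2 (isClosed_singleton_of_isLocallyClosed_singleton ?_)
      have h1 := (PrimeSpectrum.isClosed_singleton_iff_isMaximal (hW.primeIdealOf ⟨z.1, hA z.2⟩)).2 hm
      have h2 : IsClosed ({⟨z.1, hA z.2⟩} : Set W) := by
        have h3 := hW.isoSpec.hom.homeomorph.isClosed_preimage.2 h1
        rwa [show hW.isoSpec.hom.homeomorph ⁻¹' {hW.primeIdealOf ⟨z.1, hA z.2⟩} = {(⟨z.1, hA z.2⟩ : W)} from
          Set.ext fun y => ⟨fun h => hW.isoSpec.hom.homeomorph.injective h, fun h => congrArg hW.isoSpec.hom.homeomorph h⟩] at h3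
      have h4 := h2.isLocallyClosed.image W.2.isOpenEmbedding_subtypeVal.isInducing
        (by rw [Subtype.range_coe]; exact W.2.isLocallyClosed)
      rwa [Set.image_singleton] at h4)
  have hcoef : ∀ i : Fin n, ∃ N₀ : ℕ, ∀ M₀, N₀ ≤ M₀ → ∃ t : Coh.structureModule X ⟶ CohB1.tensorPow L (r + r * M₀),
      ∀ (U : X.Opens) (eL : Γ(L, U)) (he : IsGen L U eL),
        rres (inf_le_right : W ⊓ U ≤ U) (co (r + r * M₀) (sec t ⊤) le_top he) =
          rres (inf_le_right : W ⊓ U ≤ U) (co r (sec s ⊤) le_top he) ^ M₀ *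
            co r (a ^ (i : ℕ) • sec s W) (inf_le_left : W ⊓ U ≤ W) (he.restrict inf_le_right) :=
    fun i => Props.AmpleCoeff.exists_extend hL.1 s rfl (a ^ (i : ℕ) • sec s W)
  choose N₀ hN₀ using hcoef
  let E := Finset.univ.sup N₀
  choose t ht using fun i => hN₀ i E (Finset.le_sup (Finset.mem_univ i))
  have hK : r + r * E = r * (E + 1) := by ring
  let t' : Fin n → (Coh.structureModule X ⟶ CohB1.tensorPow L (r * (E + 1))) := fun i => t i ≫ eqToHom (by rw [hK])
  refine ⟨E, fun i => mulSec _ (t' i) (CohB1.tensorPow M (r * (E + 1))) ≫ (powInvIso e (r * (E + 1))).hom,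
    fun c hc z hz => ?_⟩
  obtain ⟨U, eL, hzU, heL⟩ := exists_isGen hL.1 z
  obtain ⟨U', eM, hzU', heM⟩ := exists_isGen
    (AmpleLib.isInvertible_tensorPow (isInvertible_of_inverse hL.1 ⟨e⟩) (r * (E + 1))) z
  let V := W ⊓ (U ⊓ U')
  have hzV : z ∈ V := ⟨hA hz, hzU, hzU'⟩
  have heLV := heL.restrict (inf_le_right.trans inf_le_left : V ≤ U)
  have heMV := heM.restrict (inf_le_right.trans inf_le_right : V ≤ U')
  let cs := co r (sec s ⊤) le_top heLV
  have hcs : IsUnit (X.presheaf.germ V z hzV cs) := by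
    refine (X.mem_basicOpen cs z hzV).1 ?_
    rw [← genLocus_inf_eq heLV s]
    exact ⟨hA hz, hzV⟩
  let aV : Γ(X, V) := rres (inf_le_left : V ≤ W) a
  have hco : ∀ i : Fin n, res (CohB1.tensorPow L (r + r * E)) (le_top : V ≤ ⊤) (sec (t i) ⊤) =
      (cs ^ (E + 1) * aV ^ (i : ℕ)) • pw L (res L (inf_le_right.trans inf_le_left : V ≤ U) eL) (r + r * E) := by
    intro i
    rw [co_spec (sec (t i) ⊤) le_top heLV]
    congr 1
    have h := congrArg (rres (show V ≤ W ⊓ V from le_inf inf_le_left le_rfl)) (ht i V _ heLV)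
    simp only [map_mul, map_pow, rres_rres, co_res] at h
    have h1 : co (r + r * E) (sec (t i) ⊤) (le_top : V ≤ ⊤) heLV = cs ^ E *
        co r (a ^ (i : ℕ) • sec s W) (inf_le_left : V ≤ W) heLV := by
      simpa only [rres_self, res_self, res_res, cs] using h
    rw [h1, co_unique _ _ heLV (a := aV ^ (i : ℕ) * cs) (by
      rw [res_smul, sec_res, ← sec_res s (le_top : V ≤ ⊤), co_spec (sec s ⊤) le_top heLV, smul_smul, map_pow])]
    ring
  -- the value of the combination at the generator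
  let g : (CohB1.tensorMod (CohB1.tensorPow M (r * (E + 1))) (CohB1.tensorPow L (r * (E + 1)))).presheaf.stalk z :=
    germM _ V z hzV (tmul (res _ (inf_le_right.trans inf_le_right : V ≤ U') eM)
      (pw L (res L (inf_le_right.trans inf_le_left : V ≤ U) eL) (r * (E + 1))))
  let f : k[X] := ∑ i : Fin n, Polynomial.monomial (i : ℕ) (c i)
  have hf : f ≠ 0 := by
    intro h0
    obtain ⟨i, hi⟩ := Function.ne_iff.1 hc
    refine hi ?_
    have := congrArg (Polynomial.coeff · (i : ℕ)) h0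
    simpa [f, Polynomial.finsetSum_coeff, Polynomial.coeff_monomial, Fin.val_inj] using this
  have hu : IsUnit (X.presheaf.germ V z hzV (cs ^ (E + 1) * rres (inf_le_left : V ≤ W) (aeval a f))) := by
    rw [map_mul, map_pow]
    refine (hcs.pow _).mul ?_
    have h1 : IsUnit (X.presheaf.germ W z (hA hz) (aeval a f)) :=
      (AssSch.Stalk.isUnit_germ_iff hW z (hA hz) _).2 (ha _ ⟨⟨z, hz⟩, rfl⟩ f hf)
    exact (X.presheaf.germ_res_apply (homOfLE (inf_le_left : V ≤ W)) z hzV (aeval a f)).symm ▸ h1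
  have hval : stalkLin (comb k (fun i => mulSec _ (t' i) _ ≫ (powInvIso e (r * (E + 1))).hom) c) z
      (germM _ V z hzV (res _ (inf_le_right.trans inf_le_right : V ≤ U') eM)) =
      X.presheaf.germ V z hzV (cs ^ (E + 1) * rres (inf_le_left : V ≤ W) (aeval a f)) •
        stalkLin (powInvIso e (r * (E + 1))).hom z g := by
    rw [stalkLin_comb]
    have hterm : ∀ i : Fin n, stalkLin (mulSec _ (t' i) _ ≫ (powInvIso e (r * (E + 1))).hom) z
        (germM _ V z hzV (res _ (inf_le_right.trans inf_le_right : V ≤ U') eM)) =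
        X.presheaf.germ V z hzV (cs ^ (E + 1) * aV ^ (i : ℕ)) • stalkLin (powInvIso e (r * (E + 1))).hom z g := by
      intro i
      have hsec : sec (t' i) V = (cs ^ (E + 1) * aV ^ (i : ℕ)) •
          pw L (res L (inf_le_right.trans inf_le_left : V ≤ U) eL) (r * (E + 1)) := by
        have key : ∀ (K K' : ℕ) (hKK : K = K') (τ : Coh.structureModule X ⟶ CohB1.tensorPow L K)
            (w : Γ(X, V)) (el : Γ(L, V)), sec τ V = w • pw L el K →
            sec (τ ≫ eqToHom (by rw [hKK])) V = w • (pw L el K' : Γ(CohB1.tensorPow L K', V)) := by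
          intro K K' hKK τ w el h
          subst hKK
          simpa using h
        refine key _ _ hK (t i) _ _ ?_
        rw [← sec_res (t i) (le_top : V ≤ ⊤), hco i]
      rw [stalkLin_comp', stalkLin_germ, mulSec_app, hsec, tmul_smul_right, germM_smul, map_smul]
    simp_rw [hterm, smul_smul]
    rw [← Finset.sum_smul]
    congr 1
    have hpoly : rres (inf_le_left : V ≤ W) (aeval a f) =
        ∑ i : Fin n, rres (inf_le_left : V ≤ W) (str (c i)) * aV ^ (i : ℕ) := by
      simp only [f, map_sum, aeval_monomial, map_mul, map_pow]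
      rfl
    rw [hpoly, Finset.mul_sum, map_sum]
    refine Finset.sum_congr rfl fun i _ => ?_
    rw [mul_left_comm]
    simp only [map_mul]
    congr 1
    show _ = X.presheaf.germ V z hzV (rres (inf_le_left : V ≤ W) (rres (le_top : W ≤ ⊤) _))
    rw [rres_rres]
    exact (X.presheaf.germ_res_apply (homOfLE (le_top : V ≤ ⊤)) z hzV _).symm
  -- surjectivity
  intro y
  obtain ⟨w, hw⟩ := (stalkLin_iso_bijective (powInvIso e (r * (E + 1))) z).2 y
  obtain ⟨q, hq⟩ := (PicLaw.bijective_toSpanSingleton_germ (isGen_tmul heMV (isGen_pw heLV (r * (E + 1)))) z hzV).2 w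
  refine ⟨(q * hu.unit⁻¹.1) • germM _ V z hzV (res _ (inf_le_right.trans inf_le_right : V ≤ U') eM), ?_⟩
  rw [map_smul, hval, smul_smul, mul_assoc, IsUnit.val_inv_mul, mul_one, ← map_smul, ← hw, ← hq]
  rfl

end Groth.Agent.NegVan
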