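import Groth.Agent.NegVan.Twist
import Groth.Agent.KFlat.StalkTensor
import Groth.Prelude.Def_TwSh

/-!
# The multiplication `G ⊗ N → G` by a map `N → O`
-/

set_option autoImplicit false
set_option linter.style.haveILetI false
set_option backward.isDefEq.respectTransparency false
set_option backward.isDefEq.respectTransparency.types false
universe u

open CategoryTheory Limits AlgebraicGeometry Opposite TopologicalSpace MonoidalCategory

noncomputable section

namespace Groth.Agent.NegVan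

open Groth.Agent.QCoh Groth.Agent.Props.GenLocus Groth.Agent.Props.GenTensor Groth.Agent.ProjTwist
open Groth.Agent.PullStalk.Sky Groth.Agent.PullStalk.Exact
open scoped TensorProduct

variable {X : Scheme.{u}}

/-- Two maps out of a tensor product agreeing on pure tensors are equal. -/
theorem hom_ext_tmul {G N H : X.Modules} (φ ψ : CohB1.tensorMod G N ⟶ H)
    (h : ∀ (U : X.Opens) (g : Γ(G, U)) (a : Γ(N, U)), φ.app U (tmul g a) = ψ.app U (tmul g a)) :
    φ = ψ := by
  refine ((PresheafOfModules.sheafificationAdjunction (𝟙 X.ringCatSheaf.obj)).homEquiv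
    (pre G N) H).injective ?_
  rw [Adjunction.homEquiv_unit, Adjunction.homEquiv_unit]
  refine PresheafOfModules.hom_ext fun U => ?_
  refine ModuleCat.hom_ext (LinearMap.ext fun z => ?_)
  induction z using TensorProduct.induction_on with
  | zero => exact (map_zero _).trans (map_zero _).symm
  | tmul g a => exact h U.unop g a
  | add a b ha hb => exact (map_add _ a b).trans ((congrArg₂ (· + ·) ha hb).trans (map_add _ a b).symm)

/-- The presheaf map `g ⊗ a ↦ θ a • g`. -/
def mulPre {N : X.Modules} (θ : N ⟶ Coh.structureModule X) (G : X.Modules) :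
    CohB1.tensorPre G N ⟶ CohB1.toPMod G :=
  (CohB1.toPMod G ◁ (show CohB1.toPMod N ⟶ 𝟙_ (CohB1.PMod X) from θ.val)) ≫ (ρ_ (CohB1.toPMod G)).hom

/-- `g ⊗ a ↦ θ a • g` -/
def mulθ {N : X.Modules} (θ : N ⟶ Coh.structureModule X) (G : X.Modules) :
    CohB1.tensorMod G N ⟶ G :=
  ((PresheafOfModules.sheafificationAdjunction (𝟙 X.ringCatSheaf.obj)).homEquiv _ _).symm
    (show (show X.PresheafOfModules from CohB1.tensorPre G N) ⟶ _ from mulPre θ G)

theorem mulθ_tmul {N : X.Modules} (θ : N ⟶ Coh.structureModule X) (G : X.Modules) {U : X.Opens}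
    (g : Γ(G, U)) (a : Γ(N, U)) :
    (mulθ θ G).app U (tmul g a) = (show Γ(X, U) from θ.app U a) • g := by
  have h := ((PresheafOfModules.sheafificationAdjunction (𝟙 X.ringCatSheaf.obj)).homEquiv _ _).apply_symm_apply
    (show (show X.PresheafOfModules from CohB1.tensorPre G N) ⟶ _ from mulPre θ G)
  rw [Adjunction.homEquiv_unit] at h
  exact congr((PresheafOfModules.Hom.app $h (op U)).hom (g ⊗ₜ[Γ(X, U)] a))

/-- `- ⊗ N` -/
abbrev tF (N : X.Modules) : X.Modules ⥤ X.Modules := (DCoh.tensorBi (X := X)).flip.obj N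

theorem tF_map_tmul (N : X.Modules) {G G' : X.Modules} (φ : G ⟶ G') {U : X.Opens} (g : Γ(G, U))
    (a : Γ(N, U)) : ((tF N).map φ).app U (tmul g a) = tmul (φ.app U g) a := by
  have h := (PresheafOfModules.sheafificationAdjunction (𝟙 X.ringCatSheaf.obj)).unit.naturality
    ((show CohB1.toPMod G ⟶ CohB1.toPMod G' from φ.val) ▷ CohB1.toPMod N)
  exact congr((PresheafOfModules.Hom.app $h (op U)).hom (g ⊗ₜ[Γ(X, U)] a)).symm

theorem mulθ_natural {N : X.Modules} (θ : N ⟶ Coh.structureModule X) {G G' : X.Modules} (φ : G ⟶ G') :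
    (tF N).map φ ≫ mulθ θ G' = mulθ θ G ≫ φ := by
  refine hom_ext_tmul _ _ fun U g a => ?_
  refine (congrArg ((mulθ θ G').app U) (tF_map_tmul N φ g a)).trans ((mulθ_tmul θ G' _ a).trans ?_)
  refine ((Scheme.Modules.Hom.app_smul φ _ g).symm.trans ?_)
  exact (congrArg (φ.app U) (mulθ_tmul θ G g a)).symm

/-- For invertible `N` the two ways of multiplying `G ⊗ N ⊗ N` agree. -/
theorem tF_map_mulθ {N : X.Modules} (hN : PicF.IsInvertible N) (θ : N ⟶ Coh.structureModule X)
    (G : X.Modules) : (tF N).map (mulθ θ G) = mulθ θ (CohB1.tensorMod G N) := by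
  refine hom_ext_tmul _ _ fun U x b => ?_
  refine (tF_map_tmul N (mulθ θ G) x b).trans (Eq.trans ?_ (mulθ_tmul θ (CohB1.tensorMod G N) x b).symm)
  choose W e hxW he using fun y : U => exists_isGen hN y.1
  refine eq_of_locally_eq (CohB1.tensorMod G N) (U := fun y => W y ⊓ U) (fun y => inf_le_right)
    (fun y hy => Opens.mem_iSup.mpr ⟨⟨y, hy⟩, hxW ⟨y, hy⟩, hy⟩) _ _ fun y => ?_
  let V := W y ⊓ U
  have hVU : V ≤ U := inf_le_right
  have heV := (he y).restrict (inf_le_left : V ≤ W y)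
  obtain ⟨g, hg⟩ := (AmpleLib.tmul_gen_bijective heV G le_rfl).2 (res (CohB1.tensorMod G N) hVU x)
  obtain ⟨μ, hμ, -⟩ := heV.exists_eq le_rfl (res N hVU b)
  simp only [res_self] at hg hμ
  rw [res_tmul, res_smul, ← app_res, ← hg, mulθ_tmul, hμ, tmul_smul_right, tmul_smul_left, smul_smul]
  congr 1
  show μ * _ = rres hVU (show Γ(X, U) from θ.app U b)
  rw [show rres hVU (show Γ(X, U) from θ.app U b) = (show Γ(X, V) from θ.app V (res N hVU b)) from
    (app_res θ hVU b).symm, hμ]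
  exact (Scheme.Modules.Hom.app_smul θ μ _).symm

theorem stalkLin_mulθ {N : X.Modules} (θ : N ⟶ Coh.structureModule X) (G : X.Modules) {U : X.Opens}
    (x : X) (hx : x ∈ U) (g : Γ(G, U)) (a : Γ(N, U)) :
    stalkLin (mulθ θ G) x (germM _ U x hx (tmul g a)) =
      X.presheaf.germ U x hx (show Γ(X, U) from θ.app U a) • germM G U x hx g := by
  rw [stalkLin_germ, mulθ_tmul, germM_smul]

theorem exists_germ_tmul {N G : X.Modules} {U : X.Opens} {e : Γ(N, U)} (he : IsGen N U e) (x : X)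
    (hx : x ∈ U) (t : (CohB1.tensorMod G N).presheaf.stalk x) :
    ∃ (W : X.Opens) (hW : W ≤ U) (hxW : x ∈ W) (g : Γ(G, W)), t = germM _ W x hxW (tmul g (res N hW e)) := by
  obtain ⟨W₀, hxW₀, m, rfl⟩ := exists_germM_eq _ x t
  obtain ⟨g, hg⟩ := (AmpleLib.tmul_gen_bijective he G (inf_le_right : W₀ ⊓ U ≤ U)).2
    (res _ (inf_le_left : W₀ ⊓ U ≤ W₀) m)
  exact ⟨W₀ ⊓ U, inf_le_right, ⟨hxW₀, hx⟩, g, ((congrArg (germM _ (W₀ ⊓ U) x ⟨hxW₀, hx⟩) hg).trans
    (AssSch.Stalk.germM_res _ _ x _ m)).symm⟩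

/-- The image of `mulθ` on stalks is `f • G_x` for the value `f` of `θ` at a generator. -/
theorem mem_range_mulθ_iff {N : X.Modules} (θ : N ⟶ Coh.structureModule X) (G : X.Modules)
    {U : X.Opens} {e : Γ(N, U)} (he : IsGen N U e) (x : X) (hx : x ∈ U) (t : G.presheaf.stalk x) :
    t ∈ LinearMap.range (stalkLin (mulθ θ G) x) ↔
      ∃ s, X.presheaf.germ U x hx (show Γ(X, U) from θ.app U e) • s = t := by
  constructor
  · rintro ⟨z, rfl⟩
    obtain ⟨W, hW, hxW, g, rfl⟩ := exists_germ_tmul he x hx z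
    refine ⟨germM G W x hxW g, ?_⟩
    rw [stalkLin_mulθ, app_res]
    exact congrArg (fun r : X.presheaf.stalk x => r • germM G W x hxW g)
      (X.presheaf.germ_res_apply (homOfLE hW) x hxW (show Γ(X, U) from θ.app U e)).symm
  · rintro ⟨s, rfl⟩
    obtain ⟨W₀, hxW₀, g₀, rfl⟩ := exists_germM_eq G x s
    refine ⟨germM _ (W₀ ⊓ U) x ⟨hxW₀, hx⟩ (tmul (res G inf_le_left g₀) (res N inf_le_right e)), ?_⟩
    rw [stalkLin_mulθ, app_res, AssSch.Stalk.germM_res]
    exact congrArg (fun r : X.presheaf.stalk x => r • germM G W₀ x hxW₀ g₀)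
      (X.presheaf.germ_res_apply (homOfLE (inf_le_right : W₀ ⊓ U ≤ U)) x ⟨hxW₀, hx⟩ (show Γ(X, U) from θ.app U e))

/-- `θ` is an isomorphism near `x`. -/
def IsUnitAt {N : X.Modules} (θ : N ⟶ Coh.structureModule X) (x : X) : Prop :=
  Function.Surjective (stalkLin θ x)

theorem isUnit_germ_of_isUnitAt {N : X.Modules} {θ : N ⟶ Coh.structureModule X} {U : X.Opens}
    {e : Γ(N, U)} (he : IsGen N U e) (x : X) (hx : x ∈ U) (h : IsUnitAt θ x) :
    IsUnit (X.presheaf.germ U x hx (show Γ(X, U) from θ.app U e)) := by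
  obtain ⟨t, ht⟩ := h (germM (Coh.structureModule X) U x hx (one' U))
  obtain ⟨W, hxW, m, rfl⟩ := exists_germM_eq N x t
  obtain ⟨c, hc, -⟩ := he.exists_eq (inf_le_right : W ⊓ U ≤ U) (res N inf_le_left m)
  rw [← AssSch.Stalk.germM_res N (inf_le_left : W ⊓ U ≤ W) x ⟨hxW, hx⟩ m, stalkLin_germ, hc,
    Scheme.Modules.Hom.app_smul, app_res] at ht
  obtain ⟨W', hxW', i₁, i₂, hW'⟩ := (Coh.structureModule X).presheaf.germ_eq x (show x ∈ W ⊓ U from ⟨hxW, hx⟩) hx _ _ ht
  replace hW' : X.presheaf.map i₁.op (c * rres (inf_le_right : W ⊓ U ≤ U) (show Γ(X, U) from θ.app U e)) =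
      X.presheaf.map i₂.op (1 : Γ(X, U)) := hW'
  refine IsUnit.of_mul_eq_one (X.presheaf.germ (W ⊓ U) x ⟨hxW, hx⟩ c) ?_
  rw [mul_comm, ← X.presheaf.germ_res_apply (homOfLE (inf_le_right : W ⊓ U ≤ U)) x ⟨hxW, hx⟩
    (show Γ(X, U) from θ.app U e), ← map_mul]
  refine ((X.presheaf.germ_res_apply i₁ x hxW' _).symm.trans (congrArg (X.presheaf.germ W' x hxW') hW')).trans ?_
  rw [map_one, map_one]

/-- Multiplication by `θ` is injective when `θ` is a unit at the associated points. -/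
theorem injective_app_mulθ [IsLocallyNoetherian X] {N : X.Modules} (hN : PicF.IsInvertible N)
    {θ : N ⟶ Coh.structureModule X} {G : X.Modules} [G.IsQuasicoherent]
    (h : ∀ x ∈ _root_.AssSch.Ass G, IsUnitAt θ x) (V : X.Opens) :
    Function.Injective ((mulθ θ G).app V) := by
  refine (injective_iff_map_eq_zero ((mulθ θ G).app V).hom).2 fun σ hσ => ?_
  choose W e hxW he using fun y : V => exists_isGen hN y.1
  choose A hA hxA hAW using fun y : V =>
    exists_isAffineOpen_mem_and_subset (X := X) (x := y.1) (U := W y ⊓ V) ⟨hxW y, y.2⟩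
  have hAV : ∀ y, A y ≤ V := fun y z hz => (hAW y hz).2
  have hAW' : ∀ y, A y ≤ W y := fun y z hz => (hAW y hz).1
  refine eq_of_locally_eq (CohB1.tensorMod G N) (U := A) hAV
    (fun y hy => Opens.mem_iSup.mpr ⟨⟨y, hy⟩, hxA _⟩) _ _ fun y => ?_
  rw [map_zero]
  obtain ⟨g, hg⟩ := (AmpleLib.tmul_gen_bijective (he y) G (hAW' y)).2 (res _ (hAV y) σ)
  have h0 : (show Γ(X, A y) from θ.app (A y) (res N (hAW' y) (e y))) • g = 0 := by
    rw [← mulθ_tmul θ G g]
    refine (congrArg ((mulθ θ G).app (A y)) hg).trans ((app_res _ (hAV y) σ).trans ?_)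
    exact (congrArg (res G (hAV y)) hσ).trans (map_zero _)
  have hg0 : g = 0 := by
    refine AssSch.Basic.eq_zero_of_forall_germ_eq_zero G (hA y) g fun z hz hzA => ?_
    have hu := isUnit_germ_of_isUnitAt ((he y).restrict (hAW' y)) z hz (h z hzA)
    refine hu.smul_eq_zero.1 ?_
    rw [← germM_smul, h0]
    exact AssSch.Stalk.germM_zero G z hz
  rw [← hg, hg0]
  exact tmul_zero_left _

theorem mono_mulθ [IsLocallyNoetherian X] {N : X.Modules} (hN : PicF.IsInvertible N)
    {θ : N ⟶ Coh.structureModule X} {G : X.Modules} [G.IsQuasicoherent]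
    (h : ∀ x ∈ _root_.AssSch.Ass G, IsUnitAt θ x) : Mono (mulθ θ G) := by
  constructor
  intro Z f g hfg
  refine Scheme.Modules.hom_ext _ _ fun V => ?_
  ext z
  exact injective_app_mulθ hN h V (congrArg (fun ψ : Z ⟶ G => ψ.app V z) hfg)

end Groth.Agent.NegVan
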