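import Groth.Agent.NegVan.Chain
import Groth.Agent.NegVan.Family
import Groth.Agent.KFlat.StalkTensor

/-!
# `H¹` of negative twists of a module of depth two at closed points
-/

set_option autoImplicit false
set_option maxHeartbeats 400000
set_option linter.style.haveILetI false
set_option backward.isDefEq.respectTransparency false
set_option backward.isDefEq.respectTransparency.types false
universe u

open CategoryTheory Limits AlgebraicGeometry Opposite TopologicalSpace

noncomputable section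

namespace Groth.Agent.NegVan

open Groth.Agent.QCoh Groth.Agent.Props.GenLocus Groth.Agent.Props.GenTensor Groth.Agent.ProjTwist
open Groth.Agent.PullStalk.Sky Groth.Agent.PullStalk.Exact
open scoped TensorProduct

variable {X : Scheme.{u}}

theorem nonempty_stalk_equiv {N : X.Modules} (hN : PicF.IsInvertible N) (G : X.Modules) (x : X) :
    Nonempty ((CohB1.tensorMod G N).presheaf.stalk x ≃ₗ[X.presheaf.stalk x] G.presheaf.stalk x) := by
  obtain ⟨U, e, hxU, he⟩ := exists_isGen hN x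
  let eN := LinearEquiv.ofBijective _ (PicLaw.bijective_toSpanSingleton_germ he x hxU)
  exact ⟨(KFlat.StalkTensor.stalkTensorEquiv G N x).trans
    ((TensorProduct.congr (LinearEquiv.refl _ _) eN.symm).trans (TensorProduct.rid _ _))⟩

variable (k : Type u) [Field k] [X.Over (Spec (CommRingCat.of k))]

theorem mapL_scalarEnd (G : X.Modules) (c : k) (n : ℕ) (x : Coh.HH X G n) :
    CohLES.mapL k (TwSh.scalarEnd G (Coh.toGlobal (X ↘ Spec (CommRingCat.of k)) c)) n x = c • x := by
  rw [CohLES.smul_eq, CohLES.mapL_apply]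
  congr 2

theorem mulθ_comb {N : X.Modules} {n : ℕ} (θ : Fin n → (N ⟶ Coh.structureModule X)) (c : Fin n → k)
    (G : X.Modules) : mulθ (comb k θ c) G =
      ∑ i, mulθ (θ i) G ≫ TwSh.scalarEnd G (Coh.toGlobal (X ↘ Spec (CommRingCat.of k)) (c i)) := by
  refine hom_ext_tmul _ _ fun U g a => ?_
  let A : (CohB1.tensorMod G N ⟶ G) →+ Γ(G, U) :=
    AddMonoidHom.mk' (fun ψ => ψ.app U (tmul g a)) fun ψ ψ' => rfl
  let B : (N ⟶ Coh.structureModule X) →+ Γ(X, U) :=
    AddMonoidHom.mk' (fun ψ => (show Γ(X, U) from ψ.app U a)) fun ψ ψ' => rfl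
  change _ = A _
  rw [mulθ_tmul, map_sum A]
  change B (comb k θ c) • g = _
  rw [comb, map_sum B, Finset.sum_smul]
  refine Finset.sum_congr rfl fun i _ => ?_
  change (TwSh.resTop X U _ * (show Γ(X, U) from (θ i).app U a)) • g = TwSh.resTop X U _ • (mulθ (θ i) G).app U (tmul g a)
  rw [mulθ_tmul, mul_smul]

theorem φ_comb {N : X.Modules} {n : ℕ} (θ : Fin n → (N ⟶ Coh.structureModule X)) (c : Fin n → k)
    (G : X.Modules) (j : ℕ) : φ k (comb k θ c) G j = ∑ i, c i • φ k (θ i) G j := by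
  rw [φ, step, mulθ_comb, CohLES.mapL_sum]
  refine Finset.sum_congr rfl fun i _ => LinearMap.ext fun x => ?_
  rw [CohLES.mapL_comp, LinearMap.comp_apply, mapL_scalarEnd]
  rfl

variable [IsProper (X ↘ Spec (CommRingCat.of k))] {L M : X.Modules}

include k in
theorem finrank_le_of_injective {N G : X.Modules} (hN : PicF.IsInvertible N) (hG : Coh.IsCoh G)
    {θ : N ⟶ Coh.structureModule X} {J : ℕ} (h : ∀ j, J ≤ j → Function.Injective (φ k θ G j)) :
    ∀ j j', J ≤ j → j ≤ j' →
      Module.finrank k (Coh.HH X (Ch N G j') 1) ≤ Module.finrank k (Coh.HH X (Ch N G j) 1) := by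
  haveI := EulerChar.isLocallyNoetherian k (X := X)
  haveI := EulerChar.compactSpace k (X := X)
  haveI : IsNoetherian X := {}
  intro j j' hj hjj'
  induction j', hjj' using Nat.le_induction with
  | base => rfl
  | succ m hm ih =>
    haveI := EulerChar.finite_HH k _ (isCoh_ch hN hG m) 1
    exact (LinearMap.finrank_le_finrank_of_injective (h m (hj.trans hm))).trans ih

/-- A family of more than `D * D` maps between spaces of dimension at most `D` is dependent. -/
theorem exists_comb_eq_zero {V W : Type u} [AddCommGroup V] [Module k V] [Module.Finite k V]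
    [AddCommGroup W] [Module k W] [Module.Finite k W] {D : ℕ} (hV : Module.finrank k V ≤ D)
    (hW : Module.finrank k W ≤ D) (ψ : Fin (D * D + 1) → (V →ₗ[k] W)) :
    ∃ c : Fin (D * D + 1) → k, c ≠ 0 ∧ ∑ i, c i • ψ i = 0 := by
  obtain ⟨c, hc, hc0⟩ : ∃ c ∈ LinearMap.ker (Fintype.linearCombination k ψ), c ≠ 0 := by
    refine Submodule.exists_mem_ne_zero_of_ne_bot (LinearMap.ker_ne_bot_of_finrank_lt ?_)
    rw [Module.finrank_linearMap, Module.finrank_pi, Fintype.card_fin]
    exact Nat.lt_succ_of_le (Nat.mul_le_mul hV hW)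
  exact ⟨c, hc0, (Fintype.linearCombination_apply k ψ c).symm.trans (LinearMap.mem_ker.1 hc)⟩

include k in
/-- Vanishing along a chain with bounded dimensions and many good maps. -/
theorem chain_vanish {N G : X.Modules} (hN : PicF.IsInvertible N) (hG : Coh.IsCoh G) {D n₁ : ℕ}
    (hD : ∀ j, n₁ ≤ j → Module.finrank k (Coh.HH X (Ch N G j) 1) ≤ D)
    (θ : Fin (D * D + 1) → (N ⟶ Coh.structureModule X))
    (hinj : ∀ c : Fin (D * D + 1) → k, c ≠ 0 →
      ∃ J, ∀ j, J ≤ j → Function.Injective (φ k (comb k θ c) G j)) :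
    ∃ J, ∀ j, J ≤ j → Subsingleton (Coh.HH X (Ch N G j) 1) := by
  classical
  haveI := EulerChar.isLocallyNoetherian k (X := X)
  haveI := EulerChar.compactSpace k (X := X)
  haveI : IsNoetherian X := {}
  haveI hfd : ∀ j, Module.Finite k (Coh.HH X (Ch N G j) 1) := fun j =>
    EulerChar.finite_HH k _ (isCoh_ch hN hG j) 1
  let c₁ : Fin (D * D + 1) → k := Pi.single 0 1
  have hc₁ : c₁ ≠ 0 := by simp [c₁]
  obtain ⟨J₁, hJ₁⟩ := hinj c₁ hc₁
  have hex : ∃ v, ∃ j, max J₁ n₁ ≤ j ∧ Module.finrank k (Coh.HH X (Ch N G j) 1) = v := ⟨_, _, le_rfl, rfl⟩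
  obtain ⟨J, hJ, hJd⟩ := Nat.find_spec hex
  have hJJ : J₁ ≤ J := (le_max_left _ _).trans hJ
  have hmin : ∀ j, J ≤ j → Module.finrank k (Coh.HH X (Ch N G j) 1) = Module.finrank k (Coh.HH X (Ch N G J) 1) :=
    fun j hj => le_antisymm (finrank_le_of_injective k hN hG hJ₁ J j hJJ hj)
      (hJd.trans_le (Nat.find_min' hex ⟨j, hJ.trans hj, rfl⟩))
  have hdD : ∀ j, J ≤ j → Module.finrank k (Coh.HH X (Ch N G j) 1) ≤ D :=
    fun j hj => hD j (((le_max_right _ _).trans hJ).trans hj)
  obtain ⟨c, hc0, hc⟩ := exists_comb_eq_zero k (hdD _ (Nat.le_succ J)) (hdD _ le_rfl) fun i => φ k (θ i) G J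
  have hzero : ∀ j, J ≤ j → φ k (comb k θ c) G j = 0 := by
    intro j hj
    induction j, hj using Nat.le_induction with
    | base => rw [φ_comb]; exact hc
    | succ j hj ih =>
      refine LinearMap.ext fun x => hJ₁ j (hJJ.trans hj) ?_
      rw [LinearMap.zero_apply, map_zero, ← LinearMap.comp_apply, φ_comm k hN, ih]
      rfl
  obtain ⟨Jc, hJc⟩ := hinj c hc0
  have hbig : Subsingleton (Coh.HH X (Ch N G (max J Jc + 1)) 1) := subsingleton_of_forall_eq 0 fun x => by
    refine hJc (max J Jc) (le_max_right _ _) ?_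
    rw [hzero _ (le_max_left _ _), map_zero]
    rfl
  refine ⟨J, fun j hj => (Module.finrank_zero_iff (R := k)).1 ?_⟩
  rw [hmin j hj, ← hmin _ ((le_max_left J Jc).trans (Nat.le_succ _))]
  exact Module.finrank_zero_of_subsingleton

include k in
theorem vanish_H1 (hL : CohB1.IsAmple L) (e : CohB1.tensorMod L M ≅ Coh.structureModule X)
    {F : X.Modules} (hF : Coh.IsCoh F)
    (hdepth : ∀ x : X, IsClosed ({x} : Set X) → 2 ≤ LocCoh.depth (X.presheaf.stalk x) (F.presheaf.stalk x)) :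
    ∃ n₀ : ℕ, ∀ n, n₀ ≤ n → Subsingleton (Coh.HH X (CohB1.tensorMod F (CohB1.tensorPow M n)) 1) := by
  classical
  haveI := EulerChar.isLocallyNoetherian k (X := X)
  haveI := EulerChar.compactSpace k (X := X)
  haveI : IsNoetherian X := {}
  haveI := Props.AmpleBase.isSeparated_of_isAmple hL
  haveI := hF.1
  haveI := hF.2
  have hpow : ∀ a, PicF.IsInvertible (CohB1.tensorPow M a) := fun a =>
    AmpleLib.isInvertible_tensorPow (isInvertible_of_inverse hL.1 ⟨e⟩) a
  -- associated points and depth of the twists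
  have hfin : (_root_.AssSch.Ass F).Finite := by
    obtain ⟨t, ht⟩ := isCompact_univ.elim_finite_subcover (fun V : X.affineOpens ↦ (V.1 : Set X))
      (fun V ↦ V.1.2) (fun x _ ↦ by
        obtain ⟨V, hV, hxV, -⟩ := exists_isAffineOpen_mem_and_subset (X := X) (Opens.mem_top x)
        exact Set.mem_iUnion.mpr ⟨⟨V, hV⟩, hxV⟩)
    refine (t.finite_toSet.biUnion fun V _ ↦
      Groth.Agent.AssSch.Restrict.finite_ass_inter F hF V.2).subset fun x hx ↦ ?_
    obtain ⟨V, hV, hxV⟩ := Set.mem_iUnion₂.mp (ht (Set.mem_univ x))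
    exact Set.mem_biUnion (x := V) hV ⟨hx, hxV⟩
  have hAc : ∀ z ∈ _root_.AssSch.Ass F, ¬ IsClosed ({z} : Set X) := fun z hz hc => by
    haveI := LimTop.TensorQC.finite_stalk (F := F) z
    have h1 : 1 ≤ LocCoh.idealDepth (IsLocalRing.maximalIdeal (X.presheaf.stalk z)) (F.presheaf.stalk z) :=
      le_trans (by norm_num) (hdepth z hc)
    exact (Depth.one_le_idealDepth_iff.1 h1) _
      (show IsLocalRing.maximalIdeal _ ∈ associatedPrimes _ _ from hz) le_rfl
  let G : ℕ → X.Modules := fun a => CohB1.tensorMod F (CohB1.tensorPow M a)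
  have hG : ∀ a, Coh.IsCoh (G a) := fun a => isCoh_tensor (hpow a) hF
  have hGA : ∀ a, _root_.AssSch.Ass (G a) ⊆ _root_.AssSch.Ass F := fun a x hx => by
    obtain ⟨ψ⟩ := nonempty_stalk_equiv (hpow a) F x
    exact (ψ.isAssociatedPrime_iff).1 hx
  have hGd : ∀ a, ∀ x : X, IsClosed ({x} : Set X) →
      2 ≤ LocCoh.depth (X.presheaf.stalk x) ((G a).presheaf.stalk x) := fun a x hx => by
    obtain ⟨ψ⟩ := nonempty_stalk_equiv (hpow a) F x
    exact (hdepth x hx).trans (Depth.idealDepth_congr ψ).ge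
  have hiso : ∀ a R j, Coh.HH X (Ch (CohB1.tensorPow M R) (G a) j) 1 ≃ₗ[k]
      Coh.HH X (CohB1.tensorMod F (CohB1.tensorPow M (a + R * j))) 1 := fun a R j =>
    CohLES.mapEquiv k (chIso M (G a) R j ≪≫ tensAssoc _ _ _ ≪≫ tensCongr (Iso.refl F) (powAddIso M a (R * j))) 1
  obtain ⟨m, s, hA, -, hW⟩ := Groth.Agent.S2324.result X L hL _ hfin ⊤ fun _ _ => trivial
  -- a bound on the dimensions
  obtain ⟨D, n₁, hD⟩ : ∃ D n₁ : ℕ, ∀ n, n₁ ≤ n →
      Module.finrank k (Coh.HH X (CohB1.tensorMod F (CohB1.tensorPow M n)) 1) ≤ D := by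
    obtain ⟨E, θ, hθ⟩ := exists_family (k := k) hL e (Nat.succ_pos m) s hW _ hA hfin hAc 1
    let c₀ : Fin 1 → k := fun _ => 1
    have hc₀ : c₀ ≠ 0 := fun h => one_ne_zero (congrFun h 0)
    let R := (m + 1) * (E + 1)
    have hR : 0 < R := Nat.mul_pos (Nat.succ_pos m) (Nat.succ_pos E)
    choose J hJ using fun a => exists_injective k hL e hR (hG a) (comb k θ c₀)
      (fun x hx => hθ c₀ hc₀ x (hGA a hx)) (hGd a)
    let J₀ := (Finset.range R).sup J
    refine ⟨(Finset.range R).sup fun a => Module.finrank k (Coh.HH X (Ch (CohB1.tensorPow M R) (G a) (J a)) 1),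
      R * (J₀ + 1), fun n hn => ?_⟩
    have hi : n % R < R := Nat.mod_lt _ hR
    have hq : J (n % R) ≤ n / R := (Finset.le_sup (f := J) (Finset.mem_range.2 hi)).trans
      ((Nat.le_div_iff_mul_le hR).2 ((Nat.mul_comm _ _).trans_le
        ((Nat.mul_le_mul_left _ (Nat.le_succ J₀)).trans hn)))
    have h1 := finrank_le_of_injective k (hpow R) (hG (n % R)) (hJ (n % R)) _ _ le_rfl hq
    rw [(hiso (n % R) R (n / R)).finrank_eq, Nat.mod_add_div] at h1
    exact h1.trans (Finset.le_sup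
      (f := fun a => Module.finrank k (Coh.HH X (Ch (CohB1.tensorPow M R) (G a) (J a)) 1)) (Finset.mem_range.2 hi))
  -- the family
  obtain ⟨E, θ, hθ⟩ := exists_family (k := k) hL e (Nat.succ_pos m) s hW _ hA hfin hAc (D * D + 1)
  let R := (m + 1) * (E + 1)
  have hR : 0 < R := Nat.mul_pos (Nat.succ_pos m) (Nat.succ_pos E)
  have key : ∀ a, ∃ J, ∀ j, J ≤ j → Subsingleton (Coh.HH X (Ch (CohB1.tensorPow M R) (G a) j) 1) := by
    intro a
    refine chain_vanish k (hpow R) (hG a) (D := D) (n₁ := n₁) (fun j hj => ?_) θ fun c hc =>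
      exists_injective k hL e hR (hG a) (comb k θ c) (fun x hx => hθ c hc x (hGA a hx)) (hGd a)
    refine (hiso a R j).finrank_eq.trans_le (hD _ ?_)
    exact hj.trans ((Nat.le_mul_of_pos_left j hR).trans (Nat.le_add_left _ _))
  choose J hJ using key
  let J₀ := (Finset.range R).sup J
  refine ⟨R * (J₀ + 1), fun n hn => ?_⟩
  have hi : n % R < R := Nat.mod_lt _ hR
  have hq : J (n % R) ≤ n / R := (Finset.le_sup (f := J) (Finset.mem_range.2 hi)).trans
    ((Nat.le_div_iff_mul_le hR).2 ((Nat.mul_comm _ _).trans_le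
      ((Nat.mul_le_mul_left _ (Nat.le_succ J₀)).trans hn)))
  haveI := hJ _ _ hq
  have h : Subsingleton (Coh.HH X (CohB1.tensorMod F (CohB1.tensorPow M (n % R + R * (n / R)))) 1) :=
    (hiso (n % R) R (n / R)).symm.injective.subsingleton
  rwa [Nat.mod_add_div] at h

end Groth.Agent.NegVan
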