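import Groth.Agent.NegVan.Twist
import Groth.Agent.EulerChar.Basic
import Groth.Agent.AssSch.Restrict
import Groth.Agent.LimTop.TensorQC
import Groth.Agent.S2324
import Mathlib.RingTheory.Filtration

/-!
# Negative twists of a module without closed associated points have no sections
-/

set_option autoImplicit false
set_option linter.style.haveILetI false
set_option backward.isDefEq.respectTransparency false
set_option backward.isDefEq.respectTransparency.types false
universe u

open CategoryTheory Limits AlgebraicGeometry Opposite TopologicalSpace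

noncomputable section

namespace Groth.Agent.NegVan

open Groth.Agent.QCoh Groth.Agent.PullStalk.Sky Groth.Agent.PullStalk.Exact

variable (k : Type u) [Field k] {X : Scheme.{u}} [X.Over (Spec (CommRingCat.of k))]
  [IsProper (X ↘ Spec (CommRingCat.of k))]

include k in
/-- A closed subset of a proper scheme contained in an affine open consists of closed points. -/
theorem isClosed_of_closure_subset {W : X.Opens} (hW : IsAffineOpen W) (z : X)
    (hz : closure {z} ⊆ (W : Set X)) : IsClosed ({z} : Set X) := by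
  let I := Scheme.IdealSheafData.vanishingIdeal (⟨closure {z}, isClosed_closure⟩ : Closeds X)
  have hr : Set.range I.subschemeι = closure {z} := by
    rw [Scheme.IdealSheafData.range_subschemeι, Scheme.IdealSheafData.coe_support_vanishingIdeal]
    rfl
  have hle : Set.range I.subschemeι ⊆ Set.range W.ι := by
    rw [hr, Scheme.Opens.range_ι]; exact hz
  let l := IsOpenImmersion.lift W.ι I.subschemeι hle
  have hl : l ≫ W.ι = I.subschemeι := IsOpenImmersion.lift_fac _ _ _
  haveI : IsClosedImmersion (l ≫ W.ι) := hl ▸ inferInstance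
  haveI : IsClosedImmersion l := IsClosedImmersion.of_comp l W.ι
  haveI : IsAffine W := hW
  haveI : IsAffine I.subscheme := isAffine_of_isAffineHom l
  let f := I.subschemeι ≫ (X ↘ Spec (CommRingCat.of k))
  haveI : IsAffineHom f := isAffineHom_of_isAffine f
  haveI : IsFinite f := IsFinite.iff_isProper_and_isAffineHom.mpr ⟨inferInstance, inferInstance⟩
  haveI : DiscreteTopology ↥I.subscheme := by
    have h := f.isDiscrete_preimage_singleton (default : ↥(Spec (CommRingCat.of k)))
    rw [show f ⁻¹' {default} = Set.univ from Set.eq_univ_of_forall fun y => Subsingleton.elim _ _,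
      isDiscrete_univ_iff] at h
    exact h
  obtain ⟨y, hy⟩ : z ∈ Set.range I.subschemeι := hr ▸ subset_closure rfl
  rw [← hy, ← Set.image_singleton]
  exact I.subschemeι.isClosedEmbedding.isClosedMap _ (isClosed_discrete _)

include k in
/-- Global sections of a coherent module on a proper scheme are Artinian over the global functions. -/
theorem isArtinian_sections (G : X.Modules) (hG : Coh.IsCoh G) : IsArtinian Γ(X, ⊤) Γ(G, ⊤) := by
  let φ : k →+* Γ(X, ⊤) := Coh.toGlobal (X ↘ Spec (CommRingCat.of k))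
  letI : Algebra k Γ(X, ⊤) := φ.toAlgebra
  letI : Module k Γ(G, ⊤) := Module.compHom _ φ
  haveI : IsScalarTower k Γ(X, ⊤) Γ(G, ⊤) := IsScalarTower.of_algebraMap_smul fun _ _ => rfl
  haveI := EulerChar.finite_HH k G hG 0
  let e : Coh.HH X G 0 ≃+ Γ(G, ⊤) := Sheaf.H.equiv₀ (Coh.toAb G) isTerminalTop
  haveI : Module.Finite k Γ(G, ⊤) := by
    refine Module.Finite.equiv (e.toLinearEquiv fun c y => ?_)
    refine ((Sheaf.H.equiv₀_naturality (f := Coh.smulAb G (Coh.toGlobal (X ↘ Spec (CommRingCat.of k)) c))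
      isTerminalTop y).symm).trans ?_
    exact congrArg (fun a : Γ(X, ⊤) => a • (e y : Γ(G, ⊤))) (QCoh.rres_self le_rfl (φ c))
  exact isArtinian_of_tower k inferInstance

variable {L M : X.Modules} (e : CohB1.tensorMod L M ≅ Coh.structureModule X) (F : X.Modules)

/-- `a, a + r, a + 2r, …` -/
def idx (a r : ℕ) : ℕ → ℕ
  | 0 => a
  | j + 1 => idx a r j + r

theorem idx_eq (a r : ℕ) : ∀ j, idx a r j = a + r * j
  | 0 => rfl
  | j + 1 => by rw [idx, idx_eq a r j, Nat.mul_succ]; omega

variable {r : ℕ} (s : Coh.structureModule X ⟶ CohB1.tensorPow L r)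

/-- The iterated multiplication. -/
def downIt (a : ℕ) : ∀ j, CohB1.tensorMod F (CohB1.tensorPow M (idx a r j)) ⟶ CohB1.tensorMod F (CohB1.tensorPow M a)
  | 0 => 𝟙 _
  | j + 1 => down e F s (idx a r j) ≫ downIt a j

include k e in
theorem exists_vanish [F.IsQuasicoherent] (hF : Coh.IsCoh F) (hL : PicF.IsInvertible L)
    (hW : IsAffineOpen (CohB1.genLocus _ s))
    (hA : _root_.AssSch.Ass F ⊆ (CohB1.genLocus _ s : Set X))
    (hclosed : ∀ z ∈ _root_.AssSch.Ass F, ¬ IsClosed ({z} : Set X)) (a : ℕ) :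
    ∃ J : ℕ, ∀ j, J ≤ j → Subsingleton Γ(CohB1.tensorMod F (CohB1.tensorPow M (idx a r j)), ⊤) := by
  haveI := EulerChar.isLocallyNoetherian k (X := X)
  haveI := EulerChar.compactSpace k (X := X)
  haveI : IsNoetherian X := {}
  have hM : ∀ n, PicF.IsInvertible (CohB1.tensorPow M n) := fun n =>
    AmpleLib.isInvertible_tensorPow (isInvertible_of_inverse hL ⟨e⟩) n
  have hG := ProjTwist.isCoh_tensor (hM a) hF
  let G := CohB1.tensorMod F (CohB1.tensorPow M a)
  haveI := isArtinian_sections k G hG
  -- injectivity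
  have hdown : ∀ b, Function.Injective ((down e F s b).app ⊤) := fun b => by
    refine (injective_iff_map_eq_zero ((down e F s b).app ⊤).hom).2 fun σ hσ =>
      eq_zero_of_germ_ass (hM (b + r)) σ fun z hz => (down_bijective_at e F s b z (hA hz)).1 ?_
    rw [stalkLin_germ, map_zero]
    exact (congrArg (germM _ ⊤ z trivial) hσ).trans (map_zero ((CohB1.tensorMod F (CohB1.tensorPow M b)).presheaf.germ ⊤ z trivial).hom)
  have hinj : ∀ j, Function.Injective ((downIt e F s a j).app ⊤) := fun j => by
    induction j with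
    | zero => exact fun x y h => h
    | succ j ih => exact fun x y h => hdown _ (ih h)
  -- the descending chain
  let R : ℕ → Submodule Γ(X, ⊤) Γ(G, ⊤) := fun j => LinearMap.range
    ({ toFun := fun σ => (downIt e F s a j).app ⊤ σ
       map_add' := map_add ((downIt e F s a j).app ⊤).hom
       map_smul' := fun c σ => Scheme.Modules.Hom.app_smul _ c σ } :
      Γ(CohB1.tensorMod F (CohB1.tensorPow M (idx a r j)), ⊤) →ₗ[Γ(X, ⊤)] Γ(G, ⊤))
  have hR : Antitone R := antitone_nat_of_succ_le fun j => by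
    rintro _ ⟨σ, rfl⟩
    exact ⟨(down e F s (idx a r j)).app ⊤ σ, rfl⟩
  obtain ⟨J, hJ⟩ := IsArtinian.monotone_stabilizes ⟨fun j => OrderDual.toDual (R j), hR.dual_right⟩
  have hstalk : ∀ (x : X), x ∉ CohB1.genLocus _ s → ∀ j, LinearMap.range (stalkLin (downIt e F s a j) x) ≤
      IsLocalRing.maximalIdeal (X.presheaf.stalk x) ^ j • (⊤ : Submodule _ _) := by
    intro x hx j
    induction j with
    | zero => rw [pow_zero, Ideal.one_eq_top, Submodule.top_smul]; exact le_top
    | succ j ih =>
      rintro _ ⟨t, rfl⟩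
      rw [show downIt e F s a (j + 1) = down e F s (idx a r j) ≫ downIt e F s a j from rfl, stalkLin_comp']
      have h := Submodule.mem_map_of_mem (f := stalkLin (downIt e F s a j) x)
        (down_range_le hL e F s (idx a r j) x hx ⟨t, rfl⟩)
      rw [Submodule.map_smul'', Submodule.map_top] at h
      rw [pow_succ', ← smul_eq_mul, Submodule.smul_assoc]
      exact Submodule.smul_mono le_rfl ih h
  have hRJ : R J = ⊥ := by
    rw [eq_bot_iff]
    intro σ hσ
    rw [Submodule.mem_bot]
    have hout : ∀ x : X, x ∉ CohB1.genLocus _ s → germM G ⊤ x trivial σ = 0 := by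
      intro x hx
      haveI := hG.2
      haveI := hG.1
      haveI := LimTop.TensorQC.finite_stalk (F := G) x
      haveI : IsNoetherianRing (X.presheaf.stalk x) := inferInstance
      refine (Submodule.mem_bot (X.presheaf.stalk x)).1 ?_
      rw [← Ideal.iInf_pow_smul_eq_bot_of_isLocalRing (M := G.presheaf.stalk x)
        (IsLocalRing.maximalIdeal (X.presheaf.stalk x)) (IsLocalRing.maximalIdeal.isMaximal _).ne_top]
      refine Submodule.mem_iInf _ |>.2 fun j => ?_
      obtain ⟨τ, rfl⟩ : σ ∈ R (max j J) := by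
        rw [show R (max j J) = R J from OrderDual.toDual.injective (hJ _ (le_max_right j J)).symm]
        exact hσ
      exact Submodule.smul_mono_left (Ideal.pow_le_pow_right (le_max_left j J))
        (hstalk x hx _ ⟨germM _ ⊤ x trivial τ, stalkLin_germ _ ⊤ x trivial τ⟩)
    refine eq_zero_of_germ_ass (hM a) σ fun z hz => ?_
    obtain ⟨y, hzy, hy⟩ : ∃ y, z ⤳ y ∧ y ∉ CohB1.genLocus _ s := by
      by_contra h
      push Not at h
      exact hclosed z hz (isClosed_of_closure_subset k hW z fun y hy => h y (specializes_iff_mem_closure.2 hy))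
    obtain ⟨W, hWle, hyW, h0⟩ := AssSch.Stalk.exists_res_eq_zero G y (show y ∈ (⊤ : X.Opens) from trivial) σ (hout y hy)
    rw [← AssSch.Stalk.germM_res G hWle z (hzy.mem_open W.2 hyW) σ, h0]
    exact AssSch.Stalk.germM_zero G z _
  refine ⟨J, fun j hj => subsingleton_of_forall_eq 0 fun τ => hinj j ?_⟩
  refine ((Submodule.mem_bot Γ(X, ⊤)).1 ?_).trans (map_zero ((downIt e F s a j).app ⊤).hom).symm
  rw [← hRJ]
  exact hR hj ⟨τ, rfl⟩

include k e in
theorem vanish [F.IsQuasicoherent] (hF : Coh.IsCoh F) (hL : CohB1.IsAmple L)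
    (hclosed : ∀ z ∈ _root_.AssSch.Ass F, ¬ IsClosed ({z} : Set X)) :
    ∃ n₀ : ℕ, ∀ n, n₀ ≤ n → Subsingleton Γ(CohB1.tensorMod F (CohB1.tensorPow M n), ⊤) := by
  haveI := EulerChar.isLocallyNoetherian k (X := X)
  haveI := EulerChar.compactSpace k (X := X)
  haveI : IsNoetherian X := {}
  haveI := Props.AmpleBase.isSeparated_of_isAmple hL
  have hfin : (_root_.AssSch.Ass F).Finite := by
    obtain ⟨t, ht⟩ := isCompact_univ.elim_finite_subcover (fun V : X.affineOpens ↦ (V.1 : Set X))
      (fun V ↦ V.1.2) (fun x _ ↦ by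
        obtain ⟨V, hV, hxV, -⟩ := exists_isAffineOpen_mem_and_subset (X := X) (Opens.mem_top x)
        exact Set.mem_iUnion.mpr ⟨⟨V, hV⟩, hxV⟩)
    refine (t.finite_toSet.biUnion fun V _ ↦
      Groth.Agent.AssSch.Restrict.finite_ass_inter F hF V.2).subset fun x hx ↦ ?_
    obtain ⟨V, hV, hxV⟩ := Set.mem_iUnion₂.mp (ht (Set.mem_univ x))
    exact Set.mem_biUnion (x := V) hV ⟨hx, hxV⟩
  obtain ⟨n, s, hA, -, hW⟩ := Groth.Agent.S2324.result X L hL _ hfin ⊤ fun _ _ => trivial
  choose J hJ using fun a : ℕ => exists_vanish k e F s hF hL.1 hW hA hclosed a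
  let J₀ := (Finset.range (n + 1)).sup J
  refine ⟨(n + 1) * (J₀ + 1), fun m hm => ?_⟩
  have hi : m % (n + 1) < n + 1 := Nat.mod_lt _ (Nat.succ_pos n)
  have hJ₀ : J (m % (n + 1)) ≤ J₀ := Finset.le_sup (f := J) (Finset.mem_range.2 hi)
  have hq : J₀ ≤ m / (n + 1) := (Nat.le_div_iff_mul_le (Nat.succ_pos n)).2
    ((Nat.mul_comm _ _).trans_le ((Nat.mul_le_mul_left _ (Nat.le_succ J₀)).trans hm))
  have h := hJ (m % (n + 1)) (m / (n + 1)) (hJ₀.trans hq)
  rwa [idx_eq, Nat.mod_add_div] at h

end Groth.Agent.NegVan
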