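import Groth.Agent.NegVan.MulTheta
import Groth.Agent.NegVan.Main
import Groth.Agent.CohLES.Basic
import Groth.Agent.CohDev.Coh
import Groth.Agent.Depth.Local

/-!
# The inverse system `H¹(G ⊗ N^j)`
-/

set_option autoImplicit false
set_option linter.style.haveILetI false
set_option backward.isDefEq.respectTransparency false
set_option backward.isDefEq.respectTransparency.types false
universe u

open CategoryTheory Limits AlgebraicGeometry Opposite TopologicalSpace

noncomputable section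

namespace Groth.Agent.NegVan

open Groth.Agent.QCoh Groth.Agent.Props.GenLocus Groth.Agent.Props.GenTensor Groth.Agent.ProjTwist
open Groth.Agent.PullStalk.Sky Groth.Agent.PullStalk.Exact
open scoped TensorProduct

variable {X : Scheme.{u}} {N : X.Modules}

/-- `G ⊗ N ⊗ ⋯ ⊗ N` -/
def Ch (N G : X.Modules) : ℕ → X.Modules
  | 0 => G
  | j + 1 => CohB1.tensorMod (Ch N G j) N

theorem isCoh_ch [IsNoetherian X] (hN : PicF.IsInvertible N) {G : X.Modules} (hG : Coh.IsCoh G) :
    ∀ j, Coh.IsCoh (Ch N G j)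
  | 0 => hG
  | j + 1 => isCoh_tensor hN (isCoh_ch hN hG j)

/-- `Ch (M^r) G j ≅ G ⊗ M^(r j)` -/
def chIso (M G : X.Modules) (r : ℕ) : ∀ j,
    Ch (CohB1.tensorPow M r) G j ≅ CohB1.tensorMod G (CohB1.tensorPow M (r * j))
  | 0 => (tensOne G).symm
  | j + 1 => tensCongr (chIso M G r j) (Iso.refl _) ≪≫ tensAssoc _ _ _ ≪≫
      tensCongr (Iso.refl G) (powAddIso M (r * j) r ≪≫ eqToIso (by rw [Nat.mul_succ]))

/-- The step `G ⊗ N^(j+1) ⟶ G ⊗ N^j` given by `θ`. -/
abbrev step (θ : N ⟶ Coh.structureModule X) (G : X.Modules) (j : ℕ) : Ch N G (j + 1) ⟶ Ch N G j :=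
  mulθ θ (Ch N G j)

theorem step_comm (hN : PicF.IsInvertible N) (θ θ' : N ⟶ Coh.structureModule X) (G : X.Modules) (j : ℕ) :
    step θ G (j + 1) ≫ step θ' G j = step θ' G (j + 1) ≫ step θ G j := by
  have h := mulθ_natural θ' (step θ G j)
  rw [tF_map_mulθ hN] at h
  exact h

/-- The step, twisted, is the next step. -/
theorem shortExact_step (hN : PicF.IsInvertible N) {G Q : X.Modules} (θ : N ⟶ Coh.structureModule X)
    (π : G ⟶ Q) (w : mulθ θ G ≫ π = 0) (hS : (ShortComplex.mk (mulθ θ G) π w).ShortExact) :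
    ∀ j, ∃ (π' : Ch N G j ⟶ Ch N Q j) (w' : step θ G j ≫ π' = 0),
      (ShortComplex.mk (step θ G j) π' w').ShortExact
  | 0 => ⟨π, w, hS⟩
  | j + 1 => by
    obtain ⟨π', w', h⟩ := shortExact_step hN θ π w hS j
    have hT := shortExact_tensor hN h
    have e : step θ G (j + 1) = (tF N).map (step θ G j) := (tF_map_mulθ hN θ _).symm
    refine ⟨(tF N).map π', by rw [e]; exact ((ShortComplex.mk _ π' w').map (tF N)).zero, ?_⟩
    refine ShortComplex.shortExact_of_iso (ShortComplex.isoMk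
      (S₁ := (ShortComplex.mk (step θ G j) π' w').map (tF N)) (Iso.refl _) (Iso.refl _) (Iso.refl _) ?_ ?_) hT
    · simp only [Iso.refl_hom, Category.id_comp, Category.comp_id]
      exact e
    · simp only [Iso.refl_hom, Category.id_comp, Category.comp_id]
      rfl

theorem not_assPoint_closed_cokernel [IsNoetherian X] (hN : PicF.IsInvertible N) {G : X.Modules}
    (hG : Coh.IsCoh G) (θ : N ⟶ Coh.structureModule X) (hθ : ∀ x ∈ _root_.AssSch.Ass G, IsUnitAt θ x)
    (hdepth : ∀ x : X, IsClosed ({x} : Set X) → 2 ≤ LocCoh.depth (X.presheaf.stalk x) (G.presheaf.stalk x)) :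
    (ShortComplex.mk (mulθ θ G) (cokernel.π (mulθ θ G)) (cokernel.condition _)).ShortExact ∧
    Coh.IsCoh (cokernel (mulθ θ G)) ∧
      ∀ x ∈ _root_.AssSch.Ass (cokernel (mulθ θ G)), ¬ IsClosed ({x} : Set X) := by
  haveI : G.IsQuasicoherent := hG.1
  haveI := mono_mulθ hN hθ
  have hS : (ShortComplex.mk (mulθ θ G) (cokernel.π (mulθ θ G)) (cokernel.condition _)).ShortExact :=
    ShortComplex.ShortExact.mk'
      (ShortComplex.exact_of_g_is_cokernel _ (cokernelIsCokernel _)) inferInstance inferInstance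
  have hQ := CohDev.isCoh_cokernel (mulθ θ G) (isCoh_tensor hN hG).1 hG
  refine ⟨hS, hQ, fun x hx hc => ?_⟩
  obtain ⟨hinj, hex, hsurj⟩ := stalk_exact hS x
  haveI := hG.2
  haveI := LimTop.TensorQC.finite_stalk (F := G) x
  obtain ⟨U, e, hxU, he⟩ := exists_isGen hN x
  let f := X.presheaf.germ U x hxU (show Γ(X, U) from θ.app U e)
  have hker : ∀ m, stalkLin (cokernel.π (mulθ θ G)) x m = 0 ↔ ∃ n, f • n = m := fun m =>
    (hex m).trans (mem_range_mulθ_iff θ G he x hxU m)
  by_cases hf : IsUnit f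
  · have : Subsingleton ((cokernel (mulθ θ G)).presheaf.stalk x) := subsingleton_of_forall_eq 0 fun t => by
      obtain ⟨m, rfl⟩ := hsurj t
      exact (hker m).2 ⟨hf.unit⁻¹.1 • m, by rw [smul_smul, IsUnit.mul_val_inv, one_smul]⟩
    exact not_subsingleton_iff_nontrivial.2 (AssSch.Basic.nontrivial_of_mem_ass _ hx) this
  · have hreg : IsSMulRegular (G.presheaf.stalk x) f := by
      intro a b hab
      obtain ⟨W, hxW, ga, rfl⟩ := exists_germM_eq G x a
      obtain ⟨W', hxW', gb, rfl⟩ := exists_germM_eq G x b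
      let V := W ⊓ W' ⊓ U
      have hxV : x ∈ V := ⟨⟨hxW, hxW'⟩, hxU⟩
      have key : ∀ (g : Γ(G, V)), stalkLin (mulθ θ G) x (germM _ V x hxV (tmul g (res N inf_le_right e))) =
          f • germM G V x hxV g := fun g => by
        rw [stalkLin_mulθ, app_res]
        exact congrArg (fun r : X.presheaf.stalk x => r • germM G V x hxV g)
          (X.presheaf.germ_res_apply (homOfLE inf_le_right) x hxV (show Γ(X, U) from θ.app U e))
      rw [← AssSch.Stalk.germM_res G (inf_le_left.trans inf_le_left : V ≤ W) x hxV ga,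
        ← AssSch.Stalk.germM_res G (inf_le_left.trans inf_le_right : V ≤ W') x hxV gb] at hab ⊢
      have h := hinj ((key _).trans (hab.trans (key _).symm))
      obtain ⟨V', hxV', i, j, hV'⟩ := (CohB1.tensorMod G N).presheaf.germ_eq x hxV hxV _ _ h
      refine G.presheaf.germ_ext V' hxV' i j ((AmpleLib.tmul_gen_bijective he G
        (i.le.trans inf_le_right : V' ≤ U)).1 ?_)
      have hV'' : res (CohB1.tensorMod G N) i.le (tmul (res G _ ga) (res N inf_le_right e)) =
          res (CohB1.tensorMod G N) j.le (tmul (res G _ gb) (res N inf_le_right e)) := hV'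
      rw [res_tmul, res_tmul, res_res, res_res, res_res] at hV''
      rw [show res N (i.le.trans inf_le_right : V' ≤ U) e = res N _ e from rfl]
      show tmul (res G i.le (res G _ ga)) _ = tmul (res G j.le (res G _ gb)) _
      rw [res_res, res_res]
      exact hV''
    have hfm : f ∈ IsLocalRing.maximalIdeal (X.presheaf.stalk x) := (IsLocalRing.mem_maximalIdeal f).2 hf
    let eQ := Depth.quotSMulTopEquivOfExact f (stalkLin (cokernel.π (mulθ θ G)) x) hsurj hker
    have h1 : 1 ≤ LocCoh.idealDepth (IsLocalRing.maximalIdeal (X.presheaf.stalk x))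
        ((cokernel (mulθ θ G)).presheaf.stalk x) := by
      rw [← Depth.idealDepth_congr eQ]
      exact (Depth.le_idealDepth_quotSMulTop_iff hfm hreg 1).2 (by exact_mod_cast hdepth x hc)
    haveI := hQ.1
    haveI := hQ.2
    haveI := LimTop.TensorQC.finite_stalk (F := cokernel (mulθ θ G)) x
    exact (Depth.one_le_idealDepth_iff.1 h1) _ (show IsLocalRing.maximalIdeal _ ∈ associatedPrimes _ _ from hx) le_rfl

variable (k : Type u) [Field k] [X.Over (Spec (CommRingCat.of k))] [IsProper (X ↘ Spec (CommRingCat.of k))]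

/-- The map on `H¹` of the step. -/
abbrev φ (θ : N ⟶ Coh.structureModule X) (G : X.Modules) (j : ℕ) :
    Coh.HH X (Ch N G (j + 1)) 1 →ₗ[k] Coh.HH X (Ch N G j) 1 :=
  CohLES.mapL k (step θ G j) 1

theorem φ_comm (hN : PicF.IsInvertible N) (θ θ' : N ⟶ Coh.structureModule X) (G : X.Modules) (j : ℕ) :
    (φ k θ' G j).comp (φ k θ G (j + 1)) = (φ k θ G j).comp (φ k θ' G (j + 1)) := by
  rw [← CohLES.mapL_comp, ← CohLES.mapL_comp, step_comm hN]

/-- Multiplication by a good `θ` is eventually injective on `H¹`. -/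
theorem exists_injective {L M : X.Modules} (hL : CohB1.IsAmple L)
    (e : CohB1.tensorMod L M ≅ Coh.structureModule X) {r : ℕ} (hr : 0 < r) {G : X.Modules}
    (hG : Coh.IsCoh G) (θ : CohB1.tensorPow M r ⟶ Coh.structureModule X)
    (hθ : ∀ x ∈ _root_.AssSch.Ass G, IsUnitAt θ x)
    (hdepth : ∀ x : X, IsClosed ({x} : Set X) → 2 ≤ LocCoh.depth (X.presheaf.stalk x) (G.presheaf.stalk x)) :
    ∃ J, ∀ j, J ≤ j → Function.Injective (φ k θ G j) := by
  haveI := EulerChar.isLocallyNoetherian k (X := X)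
  haveI := EulerChar.compactSpace k (X := X)
  haveI : IsNoetherian X := {}
  have hN : PicF.IsInvertible (CohB1.tensorPow M r) :=
    AmpleLib.isInvertible_tensorPow (isInvertible_of_inverse hL.1 ⟨e⟩) r
  obtain ⟨hS, hQ, hQA⟩ := not_assPoint_closed_cokernel hN hG θ hθ hdepth
  haveI := hQ.1
  obtain ⟨n₀, h₀⟩ := vanish k e (cokernel (mulθ θ G)) hQ hL hQA
  refine ⟨n₀, fun j hj => (injective_iff_map_eq_zero _).2 fun x hx => ?_⟩
  obtain ⟨π', w', hS'⟩ := shortExact_step hN θ _ _ hS j
  obtain ⟨y, rfl⟩ := CohLES.exact₁ k hS' (n₀ := 0) (n₁ := 1) rfl x hx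
  haveI := h₀ (r * j) (hj.trans (Nat.le_mul_of_pos_left j hr))
  let e₀ : Coh.HH X (CohB1.tensorMod (cokernel (mulθ θ G)) (CohB1.tensorPow M (r * j))) 0 ≃+
      Γ(CohB1.tensorMod (cokernel (mulθ θ G)) (CohB1.tensorPow M (r * j)), ⊤) :=
    Sheaf.H.equiv₀ (Coh.toAb (CohB1.tensorMod (cokernel (mulθ θ G)) (CohB1.tensorPow M (r * j)))) isTerminalTop
  haveI : Subsingleton (Coh.HH X (CohB1.tensorMod (cokernel (mulθ θ G)) (CohB1.tensorPow M (r * j))) 0) :=
    e₀.injective.subsingleton
  haveI : Subsingleton (Coh.HH X (Ch (CohB1.tensorPow M r) (cokernel (mulθ θ G)) j) 0) :=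
    (CohLES.mapEquiv k (chIso M _ r j) 0).injective.subsingleton
  rw [Subsingleton.elim y 0, map_zero]

end Groth.Agent.NegVan
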